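import Cfsg.Agent.Lib.Helper11.Suzo.Model
import Cfsg.Agent.Lib.Helper11.Order

set_option autoImplicit false
set_option maxRecDepth 100000

namespace Cfsg.Agent.Lib.Helper11.Suzo

open Cfsg.Spor Cfsg.Spor.Suz Cfsg.Agent.Lib.Helper11.Suz22880

set_option maxHeartbeats 0

noncomputable def mnets : List (List (ℕ × ℕ)) := [[(mk8_0, 16384), (mk8_1, 8192), (mk8_2, 4096), (mk8_3, 2048), (mk8_4, 1024), (mk8_5, 512), (mk8_6, 256), (mk8_7, 128), (mk8_8, 64), (mk8_9, 32), (mk8_10, 16), (mk8_11, 8), (mk8_12, 4), (mk8_13, 2), (mk8_14, 1), (mk8_15, 2), (mk8_16, 4), (mk8_17, 8), (mk8_18, 16), (mk8_19, 32), (mk8_20, 64), (mk8_21, 128), (mk8_22, 256), (mk8_23, 512), (mk8_24, 1024), (mk8_25, 2048), (mk8_26, 4096), (mk8_27, 8192), (mk8_28, 16384)], [(mk9_0, 16384), (mk9_1, 8192), (mk9_2, 4096), (mk9_3, 2048), (mk9_4, 1024), (mk9_5, 512), (mk9_6, 256), (mk9_7, 128), (mk9_8, 64), (mk9_9,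 32), (mk9_10, 16), (mk9_11, 8), (mk9_12, 4), (mk9_13, 2), (mk9_14, 1), (mk9_15, 2), (mk9_16, 4), (mk9_17, 8), (mk9_18, 16), (mk9_19, 32), (mk9_20, 64), (mk9_21, 128), (mk9_22, 256), (mk9_23, 512), (mk9_24, 1024), (mk9_25, 2048), (mk9_26, 4096), (mk9_27, 8192), (mk9_28, 16384)], [(mk10_0, 16384), (mk10_1, 8192), (mk10_2, 4096), (mk10_3, 2048), (mk10_4, 1024), (mk10_5, 512), (mk10_6, 256), (mk10_7, 128), (mk10_8, 64), (mk10_9, 32), (mk10_10, 16), (mk10_11, 8), (mk10_12, 4), (mk10_13, 2), (mk10_14, 1), (mk10_15, 2), (mk10_16, 4), (mk10_17, 8), (mk10_18, 16), (mk10_19, 32), (mk10_20, 64), (mk10_21, 128), (mk10_22, 256), (mk10_23, 512), (mk10_24, 1024), (mk10_25, 2048), (mk10_26, 4096), (mk10_27, 8192), (mk10_28, 16384)], [(mk11_0, 16384), (mk11_1, 8192), (mk11_2, 4096), (mk11_3, 2048), (mk11_4, 1024), (mk11_5, 512), (mk11_6, 256), (mk11_7, 128), (mk11_8, 64), (mk11_9, 32),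 (mk11_10, 16), (mk11_11, 8), (mk11_12, 4), (mk11_13, 2), (mk11_14, 1), (mk11_15, 2), (mk11_16, 4), (mk11_17, 8), (mk11_18, 16), (mk11_19, 32), (mk11_20, 64), (mk11_21, 128), (mk11_22, 256), (mk11_23, 512), (mk11_24, 1024), (mk11_25, 2048), (mk11_26, 4096), (mk11_27, 8192), (mk11_28, 16384)], [(mk12_0, 16384), (mk12_1, 8192), (mk12_2, 4096), (mk12_3, 2048), (mk12_4, 1024), (mk12_5, 512), (mk12_6, 256), (mk12_7, 128), (mk12_8, 64), (mk12_9, 32), (mk12_10, 16), (mk12_11, 8), (mk12_12, 4), (mk12_13, 2), (mk12_14, 1), (mk12_15, 2), (mk12_16, 4), (mk12_17, 8), (mk12_18, 16), (mk12_19, 32), (mk12_20, 64), (mk12_21, 128), (mk12_22, 256), (mk12_23, 512), (mk12_24, 1024), (mk12_25, 2048), (mk12_26, 4096), (mk12_27, 8192), (mk12_28, 16384)]]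
noncomputable def ntl2 : List (List (ℕ × ℕ)) := ntl ++ mnets
def macs : List (List ℕ) := [
  [4, 3, 2, 6, 7, 2, 1, 2, 3, 1, 2, 6, 7, 4, 3, 4, 2, 1],
  [4, 6, 7, 2, 1, 3, 2, 1, 2, 4, 3, 6, 7, 8, 7, 3, 4, 3, 2, 1, 2, 7, 2, 6, 3, 4],
  [4, 3, 6, 2, 7, 2, 3, 4, 3, 2, 6, 9, 7, 2, 3, 1, 2, 6, 4, 3, 4],
  [1, 8, 7, 9, 7, 10, 10, 7, 9, 6, 2, 10, 6],
  [4, 7, 10, 3, 9, 2, 3, 4, 8, 1, 8, 3, 4]]
def levels : List (List ℕ × ℕ × ℕ × ℕ × ℕ) := [
  ([1, 2, 3, 4, 5, 6, 7, 1, 2, 3, 4, 6, 7, 8, 9, 10, 11, 12], 3, 0, 0, 22880),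
  ([1, 2, 3, 4, 6, 7, 8, 9, 10, 11, 12], 2, 8992, 8992, 13608),
  ([8, 9, 10, 11, 12], 3, 2557, 2557, 1440)]

theorem nets2OK : ntl2.all (fun net => net.all (stOK (2 ^ (2 ^ 15)))) = true := by decide +kernel
theorem macOK : macChk (ntOf ntl2) 15 8 macs = true := by decide +kernel
theorem chainOK : chainChk (ntOf ntl2) 13 levels [] = true := by decide +kernel

theorem hrange : ∀ l < 13, netPerm (ntOf ntl2 l) ∈ psi.range := by
  have h0 : ∀ l < 8, netPerm (ntOf ntl2 l) ∈ psi.range := by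
    intro l hl
    refine ⟨PresentedGroup.mk _ ((WExp.l l).eval (fun l => LTFm.getD l 1)), ?_⟩
    rw [psi_eval]
    show wordPerm (ntOf ntl) [l] = _
    rw [wordPerm_single]
    congr 1
    unfold ntOf ntl2
    have hlen : ntl.length = 8 := by decide +kernel
    rw [List.getD_append _ _ _ _ (by omega)]
  exact macChk_spec psi (ntOf ntl2) 15 (ntOf_ok ntl2 _ nets2OK) macs 8 macOK h0

theorem order (hup : Nat.card Cfsg.Spor.Suz ≠ 0 ∧ Nat.card Cfsg.Spor.Suz ≤ 448345497600) :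
    Nat.card Cfsg.Spor.Suz = 448345497600 ∧ stabL psi (pushB levels []) = ⊥ :=
  order_of_chain psi _ (ntOf ntl2) (ntOf_ok ntl2 _ nets2OK) 13 hrange levels chainOK 448345497600
    (by decide +kernel) hup

theorem hbn : ∀ b ∈ pushB levels [], b < 22880 := by decide


end Cfsg.Agent.Lib.Helper11.Suzo
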